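import Groth.Agent.H02CA.RedDiv.Val

/-!
Moving a divisor on a two-dimensional normal local ring to a reduced one avoiding given primes.
-/

set_option autoImplicit false
set_option linter.style.haveILetI false
set_option linter.unusedSectionVars false

universe u

open IsLocalRing
open scoped Pointwise

namespace Groth.Agent.H02CA.RedDiv

variable {R : Type u} [CommRing R] [IsDomain R] [IsNoetherianRing R] [IsIntegrallyClosed R]

theorem mem_minimalPrimes_span {a : R} (ha : a ≠ 0) (p : P1 R) (h : a ∈ p.1) :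
    p.1 ∈ (Ideal.span {a}).minimalPrimes := by
  refine ⟨⟨p.2.1, (Ideal.span_singleton_le_iff_mem _).2 h⟩, fun J hJ hJp => ?_⟩
  rcases hJp.eq_or_lt with h' | h'
  · exact h'.ge
  · exfalso
    haveI := hJ.1
    haveI : J.FiniteHeight := ⟨Or.inr (ne_top_of_le_ne_top (by rw [p.2.2]; exact ENat.one_ne_top) (Ideal.height_mono h'.le))⟩
    have h2 := Ideal.height_strict_mono_of_isPrime h'
    rw [p.2.2, Order.lt_one_iff, Ideal.height_eq_zero_iff] at h2
    have : J = ⊥ := le_antisymm (h2.2 ⟨Ideal.isPrime_bot, le_rfl⟩ bot_le) bot_le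
    exact ha (by simpa [this] using hJ.2 (Ideal.mem_span_singleton_self a))

theorem finite_v_ne_zero (a : R) : {p : P1 R | v p a ≠ 0 ∧ a ≠ 0}.Finite := by
  refine Set.Finite.of_finite_image (f := fun p : P1 R => p.1) ?_ fun p _ q _ h => Subtype.ext h
  refine ((Ideal.span {a}).finite_minimalPrimes_of_isNoetherianRing).subset ?_
  rintro _ ⟨p, ⟨hp, ha⟩, rfl⟩
  exact mem_minimalPrimes_span ha p (not_not.1 fun h => hp ((v_eq_zero_iff p ha).2 h))

open Classical in
/-- The divisor of an element. -/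
noncomputable def div (a : R) : P1 R →₀ ℕ :=
  Finsupp.onFinset (finite_v_ne_zero a).toFinset (fun p => if a = 0 then 0 else v p a) fun p hp => by
    rw [Set.Finite.mem_toFinset]
    by_cases ha : a = 0
    · exact absurd (if_pos ha) hp
    · exact ⟨by simpa [ha] using hp, ha⟩

theorem div_apply {a : R} (ha : a ≠ 0) (p : P1 R) : div a p = v p a := by
  simp [div, ha]

theorem div_mul {a b : R} (ha : a ≠ 0) (hb : b ≠ 0) : div (a * b) = div a + div b := Finsupp.ext fun p => by
  rw [Finsupp.add_apply, div_apply (mul_ne_zero ha hb), div_apply ha, div_apply hb, v_mul p ha hb]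

theorem div_one : div (1 : R) = 0 := Finsupp.ext fun p => by
  rw [div_apply one_ne_zero, v_one, Finsupp.zero_apply]

/-- Linear equivalence of effective divisors. -/
def Lin (D D' : P1 R →₀ ℕ) : Prop := ∃ a b : R, a ≠ 0 ∧ b ≠ 0 ∧ div b + D = div a + D'

theorem Lin.refl (D : P1 R →₀ ℕ) : Lin D D := ⟨1, 1, one_ne_zero, one_ne_zero, rfl⟩

theorem Lin.trans {D D' D'' : P1 R →₀ ℕ} (h : Lin D D') (h' : Lin D' D'') : Lin D D'' := by
  obtain ⟨a, b, ha, hb, e⟩ := h
  obtain ⟨a', b', ha', hb', e'⟩ := h'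
  refine ⟨a * a', b * b', mul_ne_zero ha ha', mul_ne_zero hb hb', ?_⟩
  rw [div_mul ha ha', div_mul hb hb']
  calc div b + div b' + D = div b' + (div b + D) := by abel
    _ = div a + (div b' + D') := by rw [e]; abel
    _ = div a + div a' + D'' := by rw [e']; abel

theorem Lin.add {D₁ D₁' D₂ D₂' : P1 R →₀ ℕ} (h : Lin D₁ D₁') (h' : Lin D₂ D₂') : Lin (D₁ + D₂) (D₁' + D₂') := by
  obtain ⟨a, b, ha, hb, e⟩ := h
  obtain ⟨a', b', ha', hb', e'⟩ := h'
  refine ⟨a * a', b * b', mul_ne_zero ha ha', mul_ne_zero hb hb', ?_⟩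
  rw [div_mul ha ha', div_mul hb hb']
  calc div b + div b' + (D₁ + D₂) = (div b + D₁) + (div b' + D₂) := by abel
    _ = _ := by rw [e, e']; abel

variable [IsLocalRing R]

/-- The degree of a height one prime. -/
noncomputable def e (x : R) (p : P1 R) : ℕ := (Ring.ord (R ⧸ p.1) (Ideal.Quotient.mk p.1 x)).toNat

/-- The degree of a divisor. -/
noncomputable def deg (x : R) (D : P1 R →₀ ℕ) : ℕ := D.sum fun p n => n * e x p

theorem deg_add (x : R) (D D' : P1 R →₀ ℕ) : deg x (D + D') = deg x D + deg x D' :=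
  Finsupp.sum_add_index' (fun _ => Nat.zero_mul _) fun _ _ _ => add_mul _ _ _

theorem deg_single (x : R) (p : P1 R) (n : ℕ) : deg x (Finsupp.single p n) = n * e x p :=
  Finsupp.sum_single_index (Nat.zero_mul _)

theorem le_one_of_succ_le_two {a : WithBot ℕ∞} (h : a + 1 ≤ 2) : a ≤ 1 := by
  induction a using WithBot.recBotCoe with
  | bot => exact bot_le
  | coe n =>
    induction n using ENat.recTopCoe with
    | top => exact absurd (WithBot.coe_le_coe.1 (h : ((⊤ + 1 : ℕ∞) : WithBot ℕ∞) ≤ ((2 : ℕ∞) : WithBot ℕ∞))) (by simp)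
    | coe k =>
      have h2 := WithBot.coe_le_coe.1 (h : (((k : ℕ∞) + 1 : ℕ∞) : WithBot ℕ∞) ≤ ((2 : ℕ∞) : WithBot ℕ∞))
      have h3 : k + 1 ≤ 2 := Nat.cast_le.1 (h2 : ((k + 1 : ℕ) : ℕ∞) ≤ ((2 : ℕ) : ℕ∞))
      refine (WithBot.coe_le_coe.2 (?_ : (k : ℕ∞) ≤ 1) : (_ : WithBot ℕ∞) ≤ _)
      exact_mod_cast (by omega : k ≤ 1)

variable (hdim : ringKrullDim R = 2)

include hdim in
theorem P1.ne_max (p : P1 R) : p.1 ≠ maximalIdeal R := fun h => by
  have h1 := IsLocalRing.maximalIdeal_height_eq_ringKrullDim (R := R)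
  rw [← h, p.2.2, hdim] at h1
  exact absurd h1 (by decide)

include hdim in
theorem height_eq_one_of_mem {p : Ideal R} [p.IsPrime] {a : R} (ha : a ≠ 0) (hap : a ∈ p)
    (hp : p ≠ maximalIdeal R) : p.height = 1 := by
  have hlt : p < maximalIdeal R := lt_of_le_of_ne (IsLocalRing.le_maximalIdeal ‹p.IsPrime›.ne_top) hp
  have hm : (maximalIdeal R).height = 2 := by
    have h := IsLocalRing.maximalIdeal_height_eq_ringKrullDim (R := R)
    rw [hdim] at h
    exact WithBot.coe_injective (h.trans rfl)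
  have h2 : p.height ≤ 1 := by
    haveI : p.FiniteHeight := ⟨Or.inr (ne_top_of_le_ne_top (by rw [hm]; exact ENat.ofNat_ne_top 2) (Ideal.height_mono hlt.le))⟩
    have := Ideal.height_strict_mono_of_isPrime hlt
    rw [hm, show (2 : ℕ∞) = 1 + 1 from rfl] at this
    exact ENat.lt_add_one_iff (by simp) |>.1 this
  refine le_antisymm h2 (Order.one_le_iff_pos.2 (pos_iff_ne_zero.2 fun h0 => ?_))
  have := (Ideal.height_eq_zero_iff.1 h0).2 ⟨Ideal.isPrime_bot, le_rfl⟩ bot_le
  exact ha ((Submodule.eq_bot_iff _).1 (le_antisymm this bot_le) a hap)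

include hdim in
theorem dim_quotient_le (p : P1 R) : ringKrullDim (R ⧸ p.1) ≤ 1 := by
  obtain ⟨a, ha, ha0⟩ := Submodule.exists_mem_ne_zero_of_ne_bot p.ne_bot
  have h := ringKrullDim_quotient_succ_le_of_nonZeroDivisor (mem_nonZeroDivisors_of_ne_zero ha0)
    (R := R)
  have h' : ringKrullDim (R ⧸ p.1) ≤ ringKrullDim (R ⧸ Ideal.span {a}) :=
    ringKrullDim_le_of_surjective (Ideal.Quotient.factor ((Ideal.span_singleton_le_iff_mem _).2 ha))
      (Ideal.Quotient.factor_surjective _)
  exact h'.trans (le_one_of_succ_le_two (h.trans hdim.le))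

include hdim in
theorem e_eq (p : P1 R) {x : R} (hx : x ∉ p.1) :
    Ring.ord (R ⧸ p.1) (Ideal.Quotient.mk p.1 x) = (e x p : ℕ∞) := by
  haveI : Ring.KrullDimLE 1 (R ⧸ p.1) := Ring.krullDimLE_iff.mpr (dim_quotient_le hdim p)
  refine (ENat.natCast_toNat (Ring.ord_ne_top (mem_nonZeroDivisors_of_ne_zero ?_))).symm
  rwa [Ne, Ideal.Quotient.eq_zero_iff_mem]

include hdim in
theorem e_pos (p : P1 R) {x : R} (hx : x ∉ p.1) (hxm : x ∈ maximalIdeal R) : 0 < e x p := by
  refine Nat.pos_of_ne_zero fun h => ?_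
  have h0 : Ring.ord (R ⧸ p.1) (Ideal.Quotient.mk p.1 x) = 0 := by rw [e_eq hdim p hx, h]; rfl
  have hs : Subsingleton ((R ⧸ p.1) ⧸ Ideal.span {Ideal.Quotient.mk p.1 x}) := Module.length_eq_zero_iff.1 h0
  rw [Ideal.Quotient.subsingleton_iff, Ideal.span_singleton_eq_top] at hs
  haveI : Nontrivial (R ⧸ p.1) := Ideal.Quotient.nontrivial_iff.2 p.2.1.ne_top
  haveI : IsLocalHom (Ideal.Quotient.mk p.1) := Function.Surjective.isLocalHom _ Ideal.Quotient.mk_surjective
  exact (mem_maximalIdeal _).1 hxm (IsUnit.of_map _ _ hs)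

include hdim in
theorem length_quot_eq_deg {a x : R} (ha : a ≠ 0) (hx : ∀ p : P1 R, a ∈ p.1 → x ∉ p.1) :
    Module.length R ((R ⧸ Ideal.span {a}) ⧸ x • (⊤ : Submodule R (R ⧸ Ideal.span {a}))) =
      (deg x (div a) : ℕ∞) := by
  classical
  let M := R ⧸ Ideal.span {a}
  have hsupp : ∀ q : PrimeSpectrum R, q ∈ Module.support R M ↔ a ∈ q.asIdeal := fun q => by
    rw [Module.support_eq_zeroLocus, Ideal.annihilator_quotient, PrimeSpectrum.mem_zeroLocus,
      SetLike.coe_subset_coe, Ideal.span_singleton_le_iff_mem]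
  have hP : ∀ q : PrimeSpectrum R, q ∈ H22Alg.lowPrimes R M → q.asIdeal.height = 1 := fun q hq =>
    height_eq_one_of_mem hdim ha ((hsupp q).1 hq.1) hq.2
  have h1 : Module.supportDim R M ≤ 1 := by
    rw [Module.supportDim_eq_ringKrullDim_quotient_annihilator, Ideal.annihilator_quotient]
    have h := ringKrullDim_quotient_succ_le_of_nonZeroDivisor (mem_nonZeroDivisors_of_ne_zero ha) (R := R)
    exact le_one_of_succ_le_two (h.trans hdim.le)
  have hmax : ∀ q : PrimeSpectrum R, q ∈ Module.support R (M ⧸ x • (⊤ : Submodule R M)) →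
      q = ⟨maximalIdeal R, inferInstance⟩ := fun q hq => by
    obtain ⟨hq1, hq2⟩ := (H22Alg.support_quotient_smul x q).1 hq
    by_contra hne
    have hne' : q.asIdeal ≠ maximalIdeal R := fun h => hne (PrimeSpectrum.ext h)
    exact hx ⟨q.asIdeal, q.isPrime, hP q ⟨hq1, hne'⟩⟩ ((hsupp q).1 hq1) hq2
  have h0 : Module.supportDim R (M ⧸ x • (⊤ : Submodule R M)) ≤ 0 := by
    haveI : Subsingleton (Module.support R (M ⧸ x • (⊤ : Submodule R M))) :=
      ⟨fun p q => Subtype.ext ((hmax _ p.2).trans (hmax _ q.2).symm)⟩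
    exact Order.krullDim_nonpos_of_subsingleton
  have hker : Module.length R (LinearMap.ker (LinearMap.lsmul R M x)) = 0 := by
    rw [Module.length_eq_zero_iff, Submodule.subsingleton_iff_eq_bot, eq_bot_iff]
    intro z hz
    obtain ⟨z, rfl⟩ := Submodule.Quotient.mk_surjective _ z
    rw [Submodule.mem_bot, Submodule.Quotient.mk_eq_zero, Ideal.mem_span_singleton]
    have hxz : a ∣ x * z := Ideal.mem_span_singleton.1 ((Submodule.Quotient.mk_eq_zero _).1
      (by
        have h5 := LinearMap.mem_ker.1 hz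
        rwa [LinearMap.lsmul_apply, ← Submodule.Quotient.mk_smul, smul_eq_mul] at h5))
    by_cases hz0 : z = 0
    · rw [hz0]; exact dvd_zero _
    refine dvd_of_v_le ha hz0 fun p => ?_
    by_cases hap : a ∈ p.1
    · obtain ⟨c, hc⟩ := hxz
      have hx0 : x ≠ 0 := fun h => hx p hap (h ▸ p.1.zero_mem)
      have hc0 : c ≠ 0 := fun h => mul_ne_zero hx0 hz0 (by rw [hc, h, mul_zero])
      have := congrArg (v p) hc
      rw [v_mul p hx0 hz0, v_mul p ha hc0, (v_eq_zero_iff p hx0).2 (hx p hap), zero_add] at this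
      omega
    · rw [(v_eq_zero_iff p ha).2 hap]; exact Nat.zero_le _
  rw [H22Alg.length_quot_smul_eq_finsum h1 h0, hker, zero_add]
  let j : P1 R → PrimeSpectrum R := fun p => ⟨p.1, p.2.1⟩
  have hj : Function.Injective j := fun p q h => Subtype.ext (congrArg PrimeSpectrum.asIdeal h)
  have hfin := H22Alg.lowPrimes_finite (M := M) h1
  have himg : hfin.toFinset = (div a).support.image j := by
    ext q
    rw [Set.Finite.mem_toFinset, Finset.mem_image]
    constructor
    · intro hq
      refine ⟨⟨q.asIdeal, q.isPrime, hP q hq⟩, Finsupp.mem_support_iff.2 ?_, rfl⟩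
      rw [div_apply ha, Ne, v_eq_zero_iff _ ha, not_not]
      exact (hsupp q).1 hq.1
    · rintro ⟨p, hp, rfl⟩
      rw [Finsupp.mem_support_iff, div_apply ha, Ne, v_eq_zero_iff _ ha, not_not] at hp
      exact ⟨(hsupp _).2 hp, p.ne_max hdim⟩
  rw [finsum_mem_eq_finite_toFinset_sum _ hfin, himg, Finset.sum_image hj.injOn, deg, Finsupp.sum, Nat.cast_sum]
  refine Finset.sum_congr rfl fun p hp => ?_
  rw [Finsupp.mem_support_iff, div_apply ha, Ne, v_eq_zero_iff _ ha, not_not] at hp
  show Ring.ord (R ⧸ p.1) (Ideal.Quotient.mk p.1 x) * H22Alg.locLen R M (j p) = _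
  rw [e_eq hdim p (hx p hp), div_apply ha, Nat.cast_mul, mul_comm, ← ord_eq_v p ha]
  congr 1
  refine (DegreeOrd.length_localized_quot p.1 (Ideal.span {a})).trans ?_
  rw [Ideal.map_span, Set.image_singleton]
  rfl

include hdim in
theorem deg_div_eq_of_dvd_sub {a b x u : R} (ha : a ≠ 0) (hb : b ≠ 0) (hab : b = a + x * u)
    (hx : ∀ p : P1 R, a ∈ p.1 → x ∉ p.1) : deg x (div b) = deg x (div a) := by
  have hx' : ∀ p : P1 R, b ∈ p.1 → x ∉ p.1 := fun p hp h => hx p (by
    have : a = b - x * u := by rw [hab]; ring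
    rw [this]; exact sub_mem hp (Ideal.mul_mem_right _ _ h)) h
  have e1 : ∀ c : R, Module.length R ((R ⧸ Ideal.span {c}) ⧸ x • (⊤ : Submodule R (R ⧸ Ideal.span {c}))) =
      Module.length R (R ⧸ (Ideal.span {c} ⊔ Ideal.span {x})) := fun c => by
    refine LinearEquiv.length_eq ?_
    refine (Submodule.quotEquivOfEq _ (Submodule.map (Submodule.mkQ (Ideal.span {c})) (Ideal.span {x})) ?_).trans
      (Submodule.quotientQuotientEquivQuotientSup (Ideal.span {c}) (Ideal.span {x}))
    rw [← Submodule.ideal_span_singleton_smul, ← Submodule.range_mkQ (Ideal.span {c}), ← Submodule.map_top,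
      ← Submodule.map_smul'', smul_eq_mul, Ideal.mul_top]
  have hsup : Ideal.span {b} ⊔ Ideal.span {x} = Ideal.span {a} ⊔ Ideal.span {x} := by
    rw [← Ideal.span_union, ← Ideal.span_union, Set.singleton_union, Set.singleton_union, hab,
      mul_comm x u, Ideal.span_pair_add_mul_right]
  have := length_quot_eq_deg hdim hb hx'
  rw [e1, hsup, ← e1, length_quot_eq_deg hdim ha hx] at this
  exact_mod_cast this.symm

/-- Reduced and avoiding a set. -/
def Red (x : R) (S : Finset (P1 R)) (D : P1 R →₀ ℕ) : Prop :=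
  ∀ p, D p ≤ 1 ∧ ((p ∈ S ∨ x ∈ p.1) → D p = 0)

include hdim in
theorem exists_move {x : R} (hxm : x ≠ 0) (q : P1 R) (hq : x ∉ q.1) (S : Finset (P1 R)) :
    ∃ D : P1 R →₀ ℕ, Lin (Finsupp.single q 1) D ∧ deg x D = e x q ∧
      ∀ p, (p ∈ S ∨ x ∈ p.1) → D p = 0 := by
  classical
  let X := (div x).support
  have hX : ∀ p : P1 R, p ∈ X ↔ x ∈ p.1 := fun p => by
    rw [Finsupp.mem_support_iff, div_apply hxm, Ne, v_eq_zero_iff p hxm, not_not]
  obtain ⟨a, ha, haq, haX⟩ := exists_simple q X (fun h => hq ((hX q).1 h))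
  have hxa : ∀ p : P1 R, a ∈ p.1 → x ∉ p.1 := fun p hp h => haX p ((hX p).2 h) hp
  let T := ((S ∪ (div a).support).filter fun p => p ∉ X).erase q
  obtain ⟨u, hu, huq⟩ := exists_high T (fun p => v p a + 1) {q}
    (fun p hp hp' => (Finset.mem_erase.1 hp).1 (Finset.mem_singleton.1 hp'))
  have huq := huq q (Finset.mem_singleton_self q)
  have haq' : a ∈ q.1 := by
    by_contra h
    rw [(v_eq_zero_iff q ha).2 h] at haq
    exact zero_ne_one haq
  have hbq : a + x * u ∉ q.1 := fun h => by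
    rcases q.2.1.mem_or_mem (show x * u ∈ q.1 by simpa using sub_mem h haq') with h' | h'
    · exact hq h'
    · exact huq h'
  set b := a + x * u with hbdef
  have hb : b ≠ 0 := fun h => hbq (h ▸ q.1.zero_mem)
  have hu0 : u ≠ 0 := fun h => huq (h ▸ q.1.zero_mem)
  have hT : ∀ p ∈ T, v p b = v p a := fun p hp => by
    have h1 := le_v_of_mem_pow p hu0 (hu p hp)
    exact (v_add p ha (mul_ne_zero hxm hu0) (by rw [v_mul p hxm hu0]; omega)).2
  have hX0 : ∀ p : P1 R, x ∈ p.1 → v p b = 0 := fun p hp => by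
    rw [v_eq_zero_iff p hb]
    exact fun h => haX p ((hX p).2 hp) (by simpa [hbdef] using sub_mem h (Ideal.mul_mem_right u _ hp))
  have hle : ∀ p : P1 R, v p a ≤ v p b + Finsupp.single q 1 p := fun p => by
    by_cases hpq : p = q
    · subst hpq; rw [haq, Finsupp.single_eq_same]; omega
    by_cases hp0 : v p a = 0
    · omega
    have hpT : p ∈ T := by
      refine Finset.mem_erase.2 ⟨hpq, Finset.mem_filter.2 ⟨Finset.mem_union_right _ ?_, fun h => hp0 ?_⟩⟩
      · rw [Finsupp.mem_support_iff, div_apply ha]; exact hp0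
      · exact (v_eq_zero_iff p ha).2 (haX p h)
    rw [hT p hpT]; omega
  refine ⟨div b + Finsupp.single q 1 - div a, ⟨a, b, ha, hb, ?_⟩, ?_, fun p hp => ?_⟩
  · exact (add_tsub_cancel_of_le fun p => by
      rw [Finsupp.add_apply, div_apply ha, div_apply hb]; exact hle p).symm
  · have h := congrArg (deg x) (add_tsub_cancel_of_le (a := div a) (b := div b + Finsupp.single q 1) fun p => by
      rw [Finsupp.add_apply, div_apply ha, div_apply hb]; exact hle p)
    rw [deg_add, deg_add, deg_single, deg_div_eq_of_dvd_sub hdim ha hb hbdef hxa, one_mul] at h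
    omega
  · rw [Finsupp.tsub_apply, Finsupp.add_apply, div_apply ha, div_apply hb]
    by_cases hpq : p = q
    · subst hpq; rw [(v_eq_zero_iff p hb).2 hbq, haq, Finsupp.single_eq_same]; rfl
    rw [Finsupp.single_eq_of_ne hpq]
    by_cases hpx : x ∈ p.1
    · rw [hX0 p hpx]; omega
    have hpT : p ∈ T := Finset.mem_erase.2 ⟨hpq, Finset.mem_filter.2
      ⟨Finset.mem_union_left _ (hp.resolve_right hpx), fun h => hpx ((hX p).1 h)⟩⟩
    rw [hT p hpT]; omega

/-- Divisors which can be moved to reduced ones. -/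
def Movable (x : R) (D : P1 R →₀ ℕ) : Prop := ∀ S : Finset (P1 R), ∃ D', Lin D D' ∧ Red x S D'

theorem Movable.zero (x : R) : Movable x (0 : P1 R →₀ ℕ) := fun _ =>
  ⟨0, Lin.refl 0, fun _ => ⟨Nat.zero_le _, fun _ => rfl⟩⟩

theorem Movable.add {x : R} {D₁ D₂ : P1 R →₀ ℕ} (h₁ : Movable x D₁) (h₂ : Movable x D₂) : Movable x (D₁ + D₂) := by
  classical
  intro S
  obtain ⟨D₁', l₁, r₁⟩ := h₁ S
  obtain ⟨D₂', l₂, r₂⟩ := h₂ (S ∪ D₁'.support)
  refine ⟨D₁' + D₂', l₁.add l₂, fun p => ⟨?_, fun hp => ?_⟩⟩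
  · rw [Finsupp.add_apply]
    by_cases h : D₁' p = 0
    · rw [h, zero_add]; exact (r₂ p).1
    · rw [(r₂ p).2 (Or.inl (Finset.mem_union_right _ (Finsupp.mem_support_iff.2 h))), add_zero]; exact (r₁ p).1
  · rw [Finsupp.add_apply, (r₁ p).2 hp, (r₂ p).2 (hp.imp_left (Finset.mem_union_left _)), add_zero]

include hdim in
theorem movable {x : R} (hx0 : x ≠ 0) (hxm : x ∈ maximalIdeal R) :
    ∀ D : P1 R →₀ ℕ, (∀ p, x ∈ p.1 → D p = 0) → Movable x D := by
  classical
  have key : ∀ (n : ℕ) (q : P1 R), x ∉ q.1 → e x q = n → Movable x (Finsupp.single q 1) := by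
    intro n
    induction n using Nat.strong_induction_on with
    | _ n ih =>
    intro q hq hn S
    obtain ⟨D, hl, hdeg, hz⟩ := exists_move hdim hx0 q hq S
    by_cases hred : ∀ p, D p ≤ 1
    · exact ⟨D, hl, fun p => ⟨hred p, hz p⟩⟩
    push Not at hred
    obtain ⟨r, hr⟩ := hred
    have hlt : ∀ p, D p ≠ 0 → e x p < n := fun p hp => by
      have hxp : x ∉ p.1 := fun h => hp (hz p (Or.inr h))
      have hxr : x ∉ r.1 := fun h => by have := hz r (Or.inr h); omega
      have hdec : deg x D = D r * e x r + deg x (D.erase r) := by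
        conv_lhs => rw [← Finsupp.single_add_erase r D]
        rw [deg_add, deg_single]
      have h2 : 2 * e x r ≤ D r * e x r := Nat.mul_le_mul_right _ hr
      have hr0 := e_pos hdim r hxr hxm
      rw [← hn, ← hdeg, hdec]
      by_cases hpr : p = r
      · subst hpr; omega
      · have h3 : (D.erase r) p * e x p ≤ deg x (D.erase r) :=
          Finset.single_le_sum (f := fun p => (D.erase r) p * e x p) (fun _ _ => Nat.zero_le _)
            (Finsupp.mem_support_iff.2 (by rwa [Finsupp.erase_ne hpr]))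
        rw [Finsupp.erase_ne hpr] at h3
        have : e x p ≤ D p * e x p := Nat.le_mul_of_pos_left _ (Nat.pos_of_ne_zero hp)
        omega
    have hmov : Movable x D := by
      have : ∀ (F : P1 R →₀ ℕ), (∀ p, F p ≠ 0 → x ∉ p.1 ∧ e x p < n) → Movable x F := by
        intro F
        induction F using Finsupp.induction with
        | zero => exact fun _ => Movable.zero x
        | single_add p m F hp hm ihF =>
          intro h
          have hp' := h p (by simpa [Finsupp.notMem_support_iff.1 hp] using hm)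
          refine Movable.add ?_ (ihF fun p' hp'' => h p' (by simp [hp'']))
          have : ∀ m : ℕ, Movable x (Finsupp.single p m) := fun m => by
            induction m with
            | zero => rw [Finsupp.single_zero]; exact Movable.zero x
            | succ m ihm => rw [Finsupp.single_add]; exact ihm.add (ih _ hp'.2 p hp'.1 rfl)
          exact this m
      exact this D fun p hp => ⟨fun h => hp (hz p (Or.inr h)), hlt p hp⟩
    obtain ⟨D', hl', hr'⟩ := hmov S
    exact ⟨D', hl.trans hl', hr'⟩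
  intro D
  induction D using Finsupp.induction with
  | zero => exact fun _ => Movable.zero x
  | single_add p m F hp hm ihF =>
    intro h
    have hxp : x ∉ p.1 := fun hx => hm (by simpa [Finsupp.notMem_support_iff.1 hp] using h p hx)
    refine Movable.add ?_ (ihF fun p' hp' => ?_)
    · have : ∀ m : ℕ, Movable x (Finsupp.single p m) := fun m => by
        induction m with
        | zero => rw [Finsupp.single_zero]; exact Movable.zero x
        | succ m ihm => rw [Finsupp.single_add]; exact ihm.add (key _ p hxp rfl)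
      exact this m
    · have := h p' hp'
      rw [Finsupp.add_apply] at this
      omega

include hdim in
/-- An element with a reduced divisor containing given primes. -/
theorem exists_reduced (s : Finset (P1 R)) :
    ∃ f : R, f ≠ 0 ∧ (∀ p ∈ s, f ∈ p.1) ∧ IsReduced (R ⧸ Ideal.span {f}) := by
  classical
  choose π hπ0 hπv hπU using fun p : P1 R => exists_simple p (s.erase p) (Finset.notMem_erase p s)
  set a0 := ∏ p ∈ s, π p with ha0def
  have ha0 : a0 ≠ 0 := Finset.prod_ne_zero_iff.2 fun p _ => hπ0 p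
  have hv0 : ∀ p ∈ s, v p a0 = 1 := fun p hp => by
    have key : ∀ t : Finset (P1 R), v p (∏ r ∈ t, π r) = ∑ r ∈ t, v p (π r) := fun t => by
      induction t using Finset.induction_on with
      | empty => simp [v_one]
      | insert r t hr ih =>
        rw [Finset.prod_insert hr, Finset.sum_insert hr, v_mul p (hπ0 r) (Finset.prod_ne_zero_iff.2 fun r _ => hπ0 r), ih]
    rw [ha0def, key, Finset.sum_eq_single p (fun r _ hrp => (v_eq_zero_iff p (hπ0 r)).2
      (hπU r p (Finset.mem_erase.2 ⟨Ne.symm hrp, hp⟩))) (fun h => absurd hp h), hπv]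
  obtain ⟨x, hxm, hxS⟩ : ∃ x ∈ maximalIdeal R, x ≠ 0 ∧ ∀ p ∈ (div a0).support, x ∉ p.1 := by
    have hne : maximalIdeal R ≠ ⊥ := fun h => by
      have h1 := IsLocalRing.maximalIdeal_height_eq_ringKrullDim (R := R)
      rw [h, Ideal.height_bot, hdim] at h1
      exact absurd h1 (by decide)
    rcases (div a0).support.eq_empty_or_nonempty with h | ⟨r₀, hr₀⟩
    · obtain ⟨x, hx, hx0⟩ := Submodule.exists_mem_ne_zero_of_ne_bot hne
      exact ⟨x, hx, hx0, by simp [h]⟩
    have hnot : ¬ (maximalIdeal R : Set R) ⊆ ⋃ r ∈ (↑(div a0).support : Set (P1 R)), (r.1 : Set R) := by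
      intro hsub
      obtain ⟨r, -, hr⟩ := (Ideal.subset_union_prime (f := fun r : P1 R => r.1) r₀ r₀ (fun r _ _ _ => r.2.1)).1 hsub
      exact r.ne_max hdim (le_antisymm (IsLocalRing.le_maximalIdeal r.2.1.ne_top) hr)
    obtain ⟨x, hx, hx'⟩ := Set.not_subset.1 hnot
    exact ⟨x, hx, fun h => hx' (Set.mem_iUnion₂.2 ⟨r₀, hr₀, h ▸ r₀.1.zero_mem⟩),
      fun p hp h => hx' (Set.mem_iUnion₂.2 ⟨p, hp, h⟩)⟩
  let one_s : P1 R →₀ ℕ := Finsupp.indicator s fun _ _ => 1
  have hle : one_s ≤ div a0 := fun p => by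
    by_cases hp : p ∈ s
    · simp [one_s, hp, div_apply ha0, hv0 p hp]
    · simp [one_s, hp]
  obtain ⟨D, ⟨a, b, ha, hb, heq⟩, hred⟩ := movable hdim hxS.1 hxm (div a0 - one_s) (fun p hp => by
    by_contra h
    refine hxS.2 p (Finsupp.mem_support_iff.2 fun h0 => h ?_) hp
    rw [Finsupp.tsub_apply, h0, Nat.zero_sub]) s
  have hdiv : div (a0 * b) = div a + (one_s + D) := by
    rw [div_mul ha0 hb]
    calc div a0 + div b = one_s + (div a0 - one_s) + div b := by rw [add_tsub_cancel_of_le hle]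
      _ = one_s + (div b + (div a0 - one_s)) := by rw [add_assoc, add_comm (div a0 - one_s)]
      _ = _ := by rw [heq, add_left_comm]
  obtain ⟨f, hf⟩ := dvd_of_v_le ha (mul_ne_zero ha0 hb) fun p => by
    rw [← div_apply ha, ← div_apply (mul_ne_zero ha0 hb), hdiv, Finsupp.add_apply]
    exact Nat.le_add_right _ _
  have hf0 : f ≠ 0 := fun h => mul_ne_zero ha0 hb (by rw [hf, h, mul_zero])
  have hvf : ∀ p, v p f = one_s p + D p := fun p => by
    have h := congrArg (fun F : P1 R →₀ ℕ => F p) hdiv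
    simp only [Finsupp.add_apply] at h
    rw [div_apply (mul_ne_zero ha0 hb), hf, v_mul p ha hf0, div_apply ha] at h
    omega
  refine ⟨f, hf0, fun p hp => ?_, ?_⟩
  · by_contra h
    have := hvf p
    rw [(v_eq_zero_iff p hf0).2 h] at this
    simp [one_s, hp] at this
    all_goals omega
  · have h1 : ∀ p, v p f ≤ 1 := fun p => by
      rw [hvf]
      by_cases hp : p ∈ s
      · simp [one_s, hp, (hred p).2 (Or.inl hp)]
      · simpa [one_s, hp] using (hred p).1
    rw [← Ideal.isRadical_iff_quotient_reduced]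
    rintro z ⟨k, hk⟩
    rw [Ideal.mem_span_singleton] at hk ⊢
    by_cases hz : z = 0
    · rw [hz]; exact dvd_zero _
    refine dvd_of_v_le hf0 hz fun p => ?_
    by_contra hlt
    have h0 : v p z = 0 := by have := h1 p; omega
    obtain ⟨c, hc⟩ := hk
    have hc0 : c ≠ 0 := fun h => pow_ne_zero k hz (by rw [hc, h, mul_zero])
    have h4 := congrArg (v p) hc
    rw [v_pow p hz, v_mul p hf0 hc0, h0, mul_zero] at h4
    omega

end Groth.Agent.H02CA.RedDiv
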