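import Groth.Agent.S14359
import Groth.Agent.S2111
import Groth.Agent.H02CA.DegreeOrd
import Groth.Agent.H22Alg.LengthFormula
import Mathlib.RingTheory.OrderOfVanishing.Basic
import Mathlib.RingTheory.DiscreteValuationRing.TFAE
import Mathlib.RingTheory.Ideal.KrullsHeightTheorem

/-!
Valuations at the height one primes of a normal Noetherian domain.
-/

set_option autoImplicit false
set_option linter.style.haveILetI false
set_option linter.unusedSectionVars false

universe u

open IsLocalRing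

namespace Groth.Agent.H02CA.RedDiv

variable {R : Type u} [CommRing R] [IsDomain R] [IsNoetherianRing R] [IsIntegrallyClosed R]

variable (R) in
/-- Height one primes. -/
def P1 : Type u := {p : Ideal R // p.IsPrime ∧ p.height = 1}

instance (p : P1 R) : p.1.IsPrime := p.2.1

theorem P1.ne_bot (p : P1 R) : p.1 ≠ ⊥ := fun h => by
  have := p.2.2
  rw [h, Ideal.height_bot] at this
  exact zero_ne_one this

theorem P1.eq_of_le {p q : P1 R} (h : p.1 ≤ q.1) : p = q := by
  refine Subtype.ext (h.eq_or_lt.resolve_right fun hlt => ?_)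
  haveI : p.1.FiniteHeight := ⟨Or.inr (by rw [p.2.2]; exact ENat.one_ne_top)⟩
  have := Ideal.height_strict_mono_of_isPrime hlt
  rw [p.2.2, q.2.2] at this
  exact lt_irrefl _ this

instance isDVR (p : P1 R) : IsDiscreteValuationRing (Localization.AtPrime p.1) := by
  set L := Localization.AtPrime p.1
  haveI : IsNoetherianRing L := IsLocalization.isNoetherianRing p.1.primeCompl L inferInstance
  haveI : IsIntegrallyClosed L :=
    isIntegrallyClosed_of_isLocalization L p.1.primeCompl p.1.primeCompl_le_nonZeroDivisors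
  have hdim : ringKrullDim L = 1 := by
    rw [IsLocalization.AtPrime.ringKrullDim_eq_height p.1, p.2.2]; rfl
  have hne : maximalIdeal L ≠ ⊥ := fun h => by
    rw [← IsLocalization.AtPrime.map_eq_maximalIdeal p.1 L] at h
    exact p.ne_bot ((Ideal.map_eq_bot_iff_of_injective
      (IsLocalization.injective L p.1.primeCompl_le_nonZeroDivisors)).1 h)
  haveI : Ring.KrullDimLE 1 L := Ring.krullDimLE_iff.mpr (le_of_eq hdim)
  have h3 : IsIntegrallyClosed L ∧ ∃! P : Ideal L, P ≠ ⊥ ∧ P.IsPrime := by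
    refine ⟨inferInstance, maximalIdeal L, ⟨hne, inferInstance⟩, fun P hP => ?_⟩
    exact IsLocalRing.eq_maximalIdeal (hP.2.isMaximal_of_ne_bot hP.1)
  exact ((IsDiscreteValuationRing.TFAE L (IsLocalRing.isField_iff_maximalIdeal_eq.not.2 hne)).out 0 3).2 h3

/-- The valuation at a height one prime. -/
noncomputable def v (p : P1 R) (a : R) : ℕ :=
  (Ring.ord (Localization.AtPrime p.1) (algebraMap R _ a)).toNat

theorem loc_ne_zero (p : P1 R) {a : R} (ha : a ≠ 0) : algebraMap R (Localization.AtPrime p.1) a ≠ 0 := fun h =>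
  ha (IsLocalization.injective _ p.1.primeCompl_le_nonZeroDivisors (h.trans (map_zero _).symm))

theorem ord_eq_v (p : P1 R) {a : R} (ha : a ≠ 0) :
    Ring.ord (Localization.AtPrime p.1) (algebraMap R _ a) = (v p a : ℕ∞) :=
  (ENat.natCast_toNat (Ring.ord_ne_top (mem_nonZeroDivisors_of_ne_zero (loc_ne_zero p ha)))).symm

theorem v_mul (p : P1 R) {a b : R} (ha : a ≠ 0) (hb : b ≠ 0) : v p (a * b) = v p a + v p b := by
  have h := Ring.ord_mul (R := Localization.AtPrime p.1) (a := algebraMap R _ a)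
    (mem_nonZeroDivisors_of_ne_zero (loc_ne_zero p hb))
  rw [← map_mul, ord_eq_v p (mul_ne_zero ha hb), ord_eq_v p ha, ord_eq_v p hb] at h
  exact_mod_cast h

theorem v_one (p : P1 R) : v p 1 = 0 := by
  have := v_mul p (one_ne_zero (α := R)) one_ne_zero
  rw [one_mul] at this
  omega

theorem v_pow (p : P1 R) {a : R} (ha : a ≠ 0) : ∀ n : ℕ, v p (a ^ n) = n * v p a := by
  intro n
  induction n with
  | zero => simp [v_one]
  | succ n ih => rw [pow_succ, v_mul p (pow_ne_zero n ha) ha, ih]; ring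

/-- Divisibility by the power of the maximal ideal detects the valuation. -/
theorem le_v_iff (p : P1 R) {a : R} (ha : a ≠ 0) (n : ℕ) :
    n ≤ v p a ↔ algebraMap R (Localization.AtPrime p.1) a ∈ maximalIdeal (Localization.AtPrime p.1) ^ n := by
  set L := Localization.AtPrime p.1
  obtain ⟨ϖ, hϖ⟩ := IsDiscreteValuationRing.exists_irreducible L
  obtain ⟨m, u, hu⟩ := IsDiscreteValuationRing.eq_unit_mul_pow_irreducible (loc_ne_zero p ha) hϖ
  have hv : v p a = m := by
    show (Ring.ord L (algebraMap R L a)).toNat = m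
    rw [hu, Ring.ord_mul_of_isUnit_left u.isUnit, Ring.ord_pow (mem_nonZeroDivisors_of_ne_zero hϖ.ne_zero),
      Ring.ord_of_irreducible hϖ]
    simp
  rw [hv, hϖ.maximalIdeal_eq, Ideal.span_singleton_pow, Ideal.mem_span_singleton, hu]
  constructor
  · intro h
    exact Dvd.dvd.mul_left (pow_dvd_pow ϖ h) _
  · intro h
    rw [Units.dvd_mul_left] at h
    exact (pow_dvd_pow_iff hϖ.ne_zero hϖ.not_isUnit).1 h

theorem v_eq_zero_iff (p : P1 R) {a : R} (ha : a ≠ 0) : v p a = 0 ↔ a ∉ p.1 := by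
  rw [← not_iff_not, not_not, ← IsLocalization.AtPrime.to_map_mem_maximal_iff (Localization.AtPrime p.1) p.1 a,
    ← pow_one (maximalIdeal (Localization.AtPrime p.1)), ← le_v_iff p ha]
  omega

theorem le_v_of_mem_pow (p : P1 R) {a : R} (ha : a ≠ 0) {n : ℕ} (h : a ∈ p.1 ^ n) : n ≤ v p a := by
  rw [le_v_iff p ha, ← IsLocalization.AtPrime.map_eq_maximalIdeal p.1, ← Ideal.map_pow]
  exact Ideal.mem_map_of_mem _ h

/-- Adding an element of higher valuation. -/
theorem v_add (p : P1 R) {a c : R} (ha : a ≠ 0) (hc : c ≠ 0) (h : v p a < v p c) :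
    a + c ≠ 0 ∧ v p (a + c) = v p a := by
  have hc' : ∀ n ≤ v p c, algebraMap R (Localization.AtPrime p.1) c ∈ maximalIdeal _ ^ n := fun n hn =>
    (le_v_iff p hc n).1 hn
  have hne : a + c ≠ 0 := fun h0 => by
    rw [add_eq_zero_iff_eq_neg] at h0
    have : v p c ≤ v p a := (le_v_iff p ha _).2 (by rw [h0, map_neg]; exact neg_mem (hc' _ le_rfl))
    omega
  refine ⟨hne, le_antisymm ?_ ?_⟩
  · by_contra hlt
    have h1 := (le_v_iff p hne (v p a + 1)).1 (by omega)
    have h2 : algebraMap R (Localization.AtPrime p.1) a ∈ maximalIdeal _ ^ (v p a + 1) := by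
      rw [map_add] at h1
      simpa using sub_mem h1 (hc' _ (by omega))
    have := (le_v_iff p ha _).2 h2
    omega
  · rw [le_v_iff p hne, map_add]
    exact add_mem ((le_v_iff p ha _).1 le_rfl) (hc' _ h.le)

/-- Divisibility is checked in height one. -/
theorem dvd_of_v_le {a b : R} (ha : a ≠ 0) (hb : b ≠ 0) (h : ∀ p : P1 R, v p a ≤ v p b) : a ∣ b := by
  let K := FractionRing R
  have haK : algebraMap R K a ≠ 0 := (map_ne_zero_iff _ (IsFractionRing.injective R K)).2 ha
  obtain ⟨c, hc⟩ := S2111.result (R := R) (algebraMap R K b / algebraMap R K a) fun q hq h1 => by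
    let p : P1 R := ⟨q, hq, h1⟩
    haveI : IsDiscreteValuationRing (Localization.AtPrime p.1) := isDVR p
    set L := Localization.AtPrime p.1
    obtain ⟨ϖ, hϖ⟩ := IsDiscreteValuationRing.exists_irreducible L
    have h2 := (le_v_iff p hb _).1 (h p)
    obtain ⟨m, u, hu⟩ := IsDiscreteValuationRing.eq_unit_mul_pow_irreducible (loc_ne_zero p ha) hϖ
    have hm : algebraMap R L a ∈ maximalIdeal L ^ m := by
      rw [hu, hϖ.maximalIdeal_eq, Ideal.span_singleton_pow, Ideal.mem_span_singleton]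
      exact dvd_mul_left _ _
    have h3 : maximalIdeal L ^ v p a ≤ Ideal.span {algebraMap R L a} := by
      refine le_trans (Ideal.pow_le_pow_right ((le_v_iff p ha m).2 hm)) ?_
      rw [hϖ.maximalIdeal_eq, Ideal.span_singleton_pow, Ideal.span_singleton_le_span_singleton, hu]
      exact (Units.mul_left_dvd).2 dvd_rfl
    obtain ⟨c, hc⟩ := Ideal.mem_span_singleton.1 (h3 h2)
    refine ⟨c, ?_⟩
    rw [eq_div_iff haK, IsScalarTower.algebraMap_apply R L K b, IsScalarTower.algebraMap_apply R L K a, hc,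
      map_mul]
    ring
  refine ⟨c, IsFractionRing.injective R K ?_⟩
  rw [map_mul, hc, mul_div_cancel₀ _ haK]

/-- An element of finitely many high powers avoiding other primes. -/
theorem exists_high (T : Finset (P1 R)) (n : P1 R → ℕ) (U : Finset (P1 R)) (hdisj : ∀ p ∈ T, p ∉ U) :
    ∃ y : R, (∀ p ∈ T, y ∈ p.1 ^ n p) ∧ ∀ r ∈ U, y ∉ r.1 := by
  classical
  let J : Ideal R := ∏ p ∈ T, p.1 ^ n p
  have hle : ∀ p ∈ T, J ≤ p.1 ^ n p := fun p hp =>
    Ideal.prod_le_inf.trans (Finset.inf_le hp)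
  have hnot : ¬ (J : Set R) ⊆ ⋃ r ∈ (↑U : Set (P1 R)), (r.1 : Set R) := by
    intro hsub
    rcases U.eq_empty_or_nonempty with rfl | ⟨r₀, hr₀⟩
    · have := hsub J.zero_mem
      simp at this
    obtain ⟨r, hr, hJr⟩ := (Ideal.subset_union_prime (f := fun r : P1 R => r.1) r₀ r₀
      (fun r _ _ _ => r.2.1)).1 hsub
    obtain ⟨p, hp, hpr⟩ := (Ideal.IsPrime.prod_le r.2.1).1 hJr
    rcases Nat.eq_zero_or_pos (n p) with h0 | h0
    · rw [h0, pow_zero, Ideal.one_eq_top, top_le_iff] at hpr
      exact r.2.1.ne_top hpr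
    · exact hdisj p hp (P1.eq_of_le (Ideal.IsPrime.le_of_pow_le hpr) ▸ hr)
  obtain ⟨y, hy, hy'⟩ := Set.not_subset.1 hnot
  exact ⟨y, fun p hp => hle p hp hy, fun r hr h => hy' (Set.mem_iUnion₂.2 ⟨r, hr, h⟩)⟩

/-- An element with a simple zero at `q` avoiding other primes. -/
theorem exists_simple (q : P1 R) (U : Finset (P1 R)) (hq : q ∉ U) :
    ∃ a : R, a ≠ 0 ∧ v q a = 1 ∧ ∀ r ∈ U, a ∉ r.1 := by
  classical
  set L := Localization.AtPrime q.1
  obtain ⟨ϖ, hϖ⟩ := IsDiscreteValuationRing.exists_irreducible L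
  obtain ⟨⟨π, s⟩, hπs⟩ := IsLocalization.mk'_surjective q.1.primeCompl ϖ
  simp only [Function.uncurry_apply_pair] at hπs
  have hspec : ϖ * algebraMap R L s = algebraMap R L π := by rw [← hπs, IsLocalization.mk'_spec]
  have hsu : IsUnit (algebraMap R L s) := IsLocalization.map_units L s
  have hπ0 : π ≠ 0 := fun h => by
    rw [h, map_zero] at hspec
    exact hϖ.ne_zero ((mul_eq_zero.1 hspec).resolve_right hsu.ne_zero)
  have hvπ : v q π = 1 := by
    show (Ring.ord L (algebraMap R L π)).toNat = 1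
    rw [← hspec, Ring.ord_mul_of_isUnit_right hsu, Ring.ord_of_irreducible hϖ]
    rfl
  obtain ⟨y, hy, hy'⟩ := exists_high (insert q (U.filter fun r => π ∉ r.1)) (fun r => if r = q then 2 else 1)
    (U.filter fun r => π ∈ r.1) (by
      intro p hp hp'
      rw [Finset.mem_filter] at hp'
      rcases Finset.mem_insert.1 hp with rfl | hp
      · exact hq hp'.1
      · exact (Finset.mem_filter.1 hp).2 hp'.2)
  have key : π + y ≠ 0 ∧ v q (π + y) = 1 := by
    by_cases hy0 : y = 0
    · rw [hy0, add_zero]; exact ⟨hπ0, hvπ⟩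
    have h2 : 2 ≤ v q y := le_v_of_mem_pow q hy0 (by simpa using hy q (Finset.mem_insert_self _ _))
    obtain ⟨h3, h4⟩ := v_add q hπ0 hy0 (by omega)
    exact ⟨h3, h4.trans hvπ⟩
  refine ⟨π + y, key.1, key.2, fun r hr hmem => ?_⟩
  by_cases hπr : π ∈ r.1
  · exact hy' r (Finset.mem_filter.2 ⟨hr, hπr⟩) (by simpa using sub_mem hmem hπr)
  · have := hy r (Finset.mem_insert_of_mem (Finset.mem_filter.2 ⟨hr, hπr⟩))
    rw [if_neg (fun h : r = q => hq (by rw [← h]; exact hr)), pow_one] at this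
    exact hπr (by simpa using sub_mem hmem this)

end Groth.Agent.H02CA.RedDiv
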